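import Groth.Agent.H7Weight.Basic

/-!
# A pointwise criterion for weightings, stable under base change
-/

set_option autoImplicit false
set_option backward.isDefEq.respectTransparency false
set_option linter.style.haveILetI false

universe u

open AlgebraicGeometry CategoryTheory Limits

namespace Groth.Agent.H8Props.WeightDescend

open H7Weight

variable {X Y V : Scheme.{u}}

/-- A chart over `g₁ = g₀ ≫ g` is a chart of the base change. -/
noncomputable def Chart.toBaseChange {X' Y' : Scheme.{u}} {f : X ⟶ Y} {f' : X' ⟶ Y'} {h : X' ⟶ X}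
    {g : Y' ⟶ Y} (hc : IsPullback h f' f g) {g₁ : V ⟶ Y} (C : Chart f g₁) (g₀ : V ⟶ Y')
    (e : g₀ ≫ g = g₁) : Chart f' g₀ where
  U := C.U
  a := hc.lift C.a (C.π ≫ g₀) (by rw [C.w, Category.assoc, e])
  π := C.π
  finite := C.finite
  w := hc.lift_snd _ _ _
  isOpen := by
    subst e
    have hp := (IsPullback.of_hasPullback f' g₀).flip.paste_vert hc.flip
    have key : pullback.lift (hc.lift C.a (C.π ≫ g₀) (by rw [C.w, Category.assoc])) C.π
        (hc.lift_snd _ _ _) = C.lift ≫ hp.flip.isoPullback.inv := by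
      rw [← cancel_mono hp.flip.isoPullback.hom]
      apply pullback.hom_ext <;> simp
    rw [key]
    infer_instance

/-- Around every geometric point over `x` there is a chart with one geometric point and constant sum. -/
def GoodPt (f : X ⟶ Y) (w : X → ℤ) (x : X) : Prop :=
  ∀ (Ω : Type u) [Field Ω] [IsAlgClosed Ω] (η : Spec (CommRingCat.of Ω) ⟶ Y) (s : Pts f η),
    pt s.1 = x → ∃ (V : Scheme.{u}) (g : V ⟶ Y) (_ : Etale g) (η' : Spec (CommRingCat.of Ω) ⟶ V)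
      (_ : η' ≫ g = η) (D : Single g η' s) (O : V.Opens), pt η' ∈ O ∧
        ∀ (Ω' : Type u) [Field Ω'] [IsAlgClosed Ω'] (η'' : Spec (CommRingCat.of Ω') ⟶ V), pt η'' ∈ O →
          geomSum D.C.π (w ∘ D.C.a) η'' = w x

theorem GoodPt.of_isPullback {X' Y' : Scheme.{u}} {f : X ⟶ Y} {f' : X' ⟶ Y'} {h : X' ⟶ X}
    {g₀ : Y' ⟶ Y} (hc : IsPullback h f' f g₀) (w : X → ℤ) (x' : X') (hx : GoodPt f w (h x')) :
    GoodPt f' (w ∘ h) x' := by
  intro Ω _ _ η s hs
  subst hs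
  obtain ⟨V, g, _, η₁, hη₁, D, O, hO, hconst⟩ := hx Ω (η ≫ g₀)
    ⟨s.1 ≫ h, by rw [Category.assoc, hc.w, ← Category.assoc, s.2]⟩ rfl
  let η₂ := pullback.lift η₁ η hη₁
  let B := D.baseChange (pullback.fst g g₀) (η'' := η₂) (pullback.lift_fst _ _ _)
  let C := Chart.toBaseChange hc B.C (pullback.snd g g₀) pullback.condition.symm
  refine ⟨_, pullback.snd g g₀, inferInstance, η₂, pullback.lift_snd _ _ _,
    ⟨C, B.p, hc.hom_ext ?_ ?_, B.unique⟩, pullback.fst g g₀ ⁻¹ᵁ O, ?_, fun Ω' _ _ η'' hη'' => ?_⟩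
  · rw [Category.assoc]
    show B.p.1 ≫ hc.lift _ _ _ ≫ h = _
    rw [hc.lift_fst]
    exact B.p_a
  · rw [Category.assoc]
    show B.p.1 ≫ hc.lift _ _ _ ≫ f' = _
    refine Eq.trans ?_ s.2.symm
    rw [hc.lift_snd, ← Category.assoc]
    exact (congrArg (· ≫ _) B.p.2).trans (pullback.lift_snd _ _ _)
  · show pullback.fst g g₀ (pt η₂) ∈ O
    rw [← pt_comp, pullback.lift_fst]
    exact hO
  · have e : (w ∘ h) ∘ C.a = w ∘ B.C.a := funext fun u => by
      show w ((C.a ≫ h) u) = _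
      rw [show C.a ≫ h = B.C.a from hc.lift_fst _ _ _]
      rfl
    show geomSum B.C.π ((w ∘ h) ∘ C.a) η'' = _
    rw [e]
    exact (Chart.geomSum_baseChange D.C (pullback.fst g g₀) w η'').trans
      (hconst Ω' _ (by rw [pt_comp]; exact hη''))

/-- A chart with constant sum, radicial over `Z`, makes good the points coming from `Z`. -/
theorem goodPt_of_chart {f : X ⟶ Y} {g : V ⟶ Y} [Etale g] (C : Chart f g) (Z : Set V) (w : X → ℤ)
    (hZ : ∀ (Ω : Type u) [Field Ω] [IsAlgClosed Ω] (η : Spec (CommRingCat.of Ω) ⟶ V), pt η ∈ Z →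
      Subsingleton (Pts C.π η))
    (n : ℤ) (hn : ∀ (Ω : Type u) [Field Ω] [IsAlgClosed Ω] (η : Spec (CommRingCat.of Ω) ⟶ V),
      geomSum C.π (w ∘ C.a) η = n)
    (u : C.U) (hu : C.π u ∈ Z) : GoodPt f w (C.a u) := by
  intro Ω _ _ η s hs
  obtain ⟨q, hq⟩ := exists_pts C.a s.1 u hs.symm
  have hz : pt (q.1 ≫ C.π) ∈ Z := by rw [pt_comp, hq]; exact hu
  haveI := hZ Ω (q.1 ≫ C.π) hz
  let D : Single g (q.1 ≫ C.π) s :=
    ⟨C, ⟨q.1, rfl⟩, q.2, fun _ => Subsingleton.elim _ _⟩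
  refine ⟨V, g, inferInstance, q.1 ≫ C.π, by rw [Category.assoc, ← C.w, ← Category.assoc, q.2, s.2],
    D, ⊤, trivial, fun Ω' _ _ η'' _ => ?_⟩
  rw [← hs, ← geomSum_single D w]
  exact (hn Ω' η'').trans (hn Ω _).symm

theorem exists_singles_of_good {Ω : Type u} [Field Ω] [IsAlgClosed Ω] {f : X ⟶ Y} (w : X → ℤ)
    (η : Spec (CommRingCat.of Ω) ⟶ Y) (S : Finset (Pts f η))
    (hS : ∀ s ∈ S, GoodPt f w (pt s.1)) :
    ∃ (V : Scheme.{u}) (g : V ⟶ Y) (_ : Etale g) (η' : Spec (CommRingCat.of Ω) ⟶ V) (_ : η' ≫ g = η),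
      ∀ s ∈ S, ∃ (D : Single g η' s) (O : V.Opens), pt η' ∈ O ∧
        ∀ (Ω' : Type u) [Field Ω'] [IsAlgClosed Ω'] (η'' : Spec (CommRingCat.of Ω') ⟶ V), pt η'' ∈ O →
          geomSum D.C.π (w ∘ D.C.a) η'' = w (pt s.1) := by
  classical
  induction S using Finset.induction_on with
  | empty => exact ⟨Y, 𝟙 Y, inferInstance, η, Category.comp_id _, by simp⟩
  | @insert s S _ ih =>
    obtain ⟨V₁, g₁, _, η₁, hη₁, h₁⟩ := ih fun t ht => hS t (Finset.mem_insert_of_mem ht)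
    obtain ⟨V₂, g₂, _, η₂, hη₂, D, O, hO, hc⟩ := hS s (Finset.mem_insert_self _ _) Ω η s rfl
    refine ⟨pullback g₁ g₂, pullback.fst g₁ g₂ ≫ g₁, inferInstance,
      pullback.lift η₁ η₂ (hη₁.trans hη₂.symm), by rw [pullback.lift_fst_assoc, hη₁], fun t ht => ?_⟩
    rcases Finset.mem_insert.1 ht with rfl | ht
    · rw [pullback.condition]
      refine ⟨D.baseChange _ (pullback.lift_snd _ _ _), pullback.snd g₁ g₂ ⁻¹ᵁ O, ?_,
        fun Ω' _ _ η'' hη'' => ?_⟩
      · show pullback.snd g₁ g₂ (pt _) ∈ O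
        rw [← pt_comp, pullback.lift_snd]
        exact hO
      · exact (Chart.geomSum_baseChange D.C _ w η'').trans (hc Ω' _ (by rw [pt_comp]; exact hη''))
    · obtain ⟨E, O', hO', hc'⟩ := h₁ t ht
      refine ⟨E.baseChange _ (pullback.lift_fst _ _ _), pullback.fst g₁ g₂ ⁻¹ᵁ O', ?_,
        fun Ω' _ _ η'' hη'' => ?_⟩
      · show pullback.fst g₁ g₂ (pt _) ∈ O'
        rw [← pt_comp, pullback.lift_fst]
        exact hO'
      · exact (Chart.geomSum_baseChange E.C _ w η'').trans (hc' Ω' _ (by rw [pt_comp]; exact hη''))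

/-- The pointwise criterion. -/
theorem isWeighting_of_good (f : X ⟶ Y) [LocallyQuasiFinite f] [LocallyOfFiniteType f] (w : X → ℤ)
    (H : ∀ x, GoodPt f w x) : MoreMor.IsWeighting f w := by
  classical
  refine isWeighting_of_forall f w fun V g _ B Ω _ _ η => ?_
  have := B.finite_pts η
  cases nonempty_fintype (Pts B.π η)
  obtain ⟨V₁, g₁, _, η₁, hη₁, hD⟩ := exists_singles_of_good w (η ≫ g)
    (Finset.univ.image (B.ptsMap (η := η))) fun s _ => H _
  choose D O hO hconst using fun p => hD _ (Finset.mem_image_of_mem _ (Finset.mem_univ p))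
  obtain ⟨V₀, hV₀, hsum⟩ := singles_decomp B η g₁ η₁ hη₁ D
  let η' := pullback.lift η η₁ hη₁.symm
  refine ⟨_, pullback.fst g g₁, inferInstance, η', pullback.lift_fst _ _ _,
    V₀ ⊓ ⟨⋂ p, (pullback.snd g g₁) ⁻¹' (O p : Set V₁),
      isOpen_iInter_of_finite fun p => (O p).2.preimage (pullback.snd g g₁).continuous⟩,
    ⟨hV₀, Set.mem_iInter.2 fun p => ?_⟩, fun Ω' _ _ η'' hη'' => ?_⟩
  · show pullback.snd g g₁ (pt η') ∈ O p
    rw [← pt_comp, pullback.lift_snd]
    exact hO p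
  · conv_rhs => rw [← pullback.lift_fst η η₁ hη₁.symm]
    rw [hsum Ω' η'' hη''.1 w, hsum Ω η' hV₀ w]
    refine finsum_congr fun p => ?_
    rw [hconst p Ω' (η'' ≫ pullback.snd g g₁) (by rw [pt_comp]; exact Set.mem_iInter.1 hη''.2 p),
      hconst p Ω (η' ≫ pullback.snd g g₁) (by rw [pullback.lift_snd]; exact hO p)]

end Groth.Agent.H8Props.WeightDescend
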