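import Groth.Agent.H8Props.WeightDescend.Stage
import Groth.Agent.H28Top.Spectral

/-!
# Weightings descend along cofiltered limits of affine schemes
-/

set_option autoImplicit false
set_option linter.style.haveILetI false
set_option backward.isDefEq.respectTransparency false
set_option backward.defeqAttrib.useBackward true

universe u

open CategoryTheory Limits AlgebraicGeometry Topology TopologicalSpace

namespace Groth.Agent.H8Props.WeightDescend

open H7Weight H7Lim H7Lim.FPDescent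

variable {I : Type u} [Category.{u} I] [IsCofiltered I] {D : I ⥤ Scheme.{u}} {c : Cone D}
  [∀ i, IsAffine (D.obj i)]

omit [IsCofiltered I] [∀ i, IsAffine (D.obj i)] in
theorem g_eq {X : Scheme.{u}} {f : X ⟶ c.pt} {i : I} (M : Model c f i) (k : Over i) :
    (M.shift k.hom).g = M.hpb.isoPullback.hom ≫ (pbCone D c i M.p).π.app k := by
  show pullback.lift _ _ _ = _
  apply pullback.hom_ext <;> simp

/-- A function with constructible level sets comes from a stage. -/
theorem exists_stage_function (hc : IsLimit c) {X : Scheme.{u}} (f : X ⟶ c.pt) {i₀ : I}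
    (M₀ : Model c f i₀) [CompactSpace X] [QuasiSeparatedSpace X] (w : X → ℤ) (hR : (Set.range w).Finite)
    (hlev : ∀ n, IsLocallyConstructible {x | w x = n}) :
    ∃ (k : Over i₀) (w₁ : (M₀.shift k.hom).P → ℤ), (∀ n, IsLocallyConstructible {z | w₁ z = n}) ∧
      ∀ x, w₁ ((M₀.shift k.hom).g x) = w x := by
  classical
  haveI := M₀.compactSpace
  haveI := M₀.quasiSeparatedSpace
  let G := pbDiagram D i₀ M₀.p
  let e := M₀.hpb.isoPullback
  let R := hR.toFinset
  have hZ : ∀ n : ℤ, ∃ (k : Over i₀) (Z : Set (G.obj k)), IsConstructible Z ∧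
      ∀ x, e.hom x ∈ (pbCone D c i₀ M₀.p).π.app k ⁻¹' Z ↔ w x = n := by
    intro n
    have hc1 : IsConstructible (e.inv ⁻¹' {x | w x = n}) :=
      e.inv.isConstructible_preimage (hlev n).isConstructible
    obtain ⟨k, -, Z, hZc, hZeq⟩ := exists_isConstructible_preimage (isLimitPbCone D i₀ M₀.p hc)
      (Over.mk (𝟙 i₀)) hc1
    refine ⟨k, Z, hZc, fun x => ?_⟩
    rw [hZeq]
    show w ((e.hom ≫ e.inv) x) = n ↔ _
    rw [e.hom_inv_id]
    rfl
  choose k Z hZc hZeq using hZ
  obtain ⟨k₁, hk₁⟩ := IsCofiltered.inf_objs_exists (insert (Over.mk (𝟙 i₀)) (R.image k))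
  have v : ∀ n : R, k₁ ⟶ k n.1 := fun n =>
    (hk₁ (Finset.mem_insert_of_mem (Finset.mem_image_of_mem k n.2))).some
  let Z₁ : R → Set (M₀.shift k₁.hom).P := fun n => G.map (v n) ⁻¹' Z n.1
  have hZ₁ : ∀ n, IsConstructible (Z₁ n) := fun n => (G.map (v n)).isConstructible_preimage (hZc n.1)
  let w₁ : (M₀.shift k₁.hom).P → ℤ := fun z => ∑ n : R, if z ∈ Z₁ n then n.1 else 0
  refine ⟨k₁, w₁, fun m => ?_, fun x => ?_⟩
  · have : {z | w₁ z = m} =
        ⋃ S ∈ {S : Finset R | ∑ n ∈ S, n.1 = m}, ⋂ n : R, (if n ∈ S then Z₁ n else (Z₁ n)ᶜ) := by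
      ext z
      constructor
      · intro hz
        refine Set.mem_biUnion (x := Finset.univ.filter (fun n => z ∈ Z₁ n)) ?_
          (Set.mem_iInter.2 fun n => ?_)
        · exact (Finset.sum_filter _ _).trans hz
        · by_cases h : z ∈ Z₁ n <;> simp [h]
      · intro hz
        obtain ⟨S, hS, hz⟩ := Set.mem_iUnion₂.1 hz
        refine Eq.trans ?_ hS
        show ∑ n : R, _ = _
        rw [← Finset.sum_filter]
        congr 1
        ext n
        have := Set.mem_iInter.1 hz n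
        by_cases h : n ∈ S <;> simp_all
    rw [this]
    refine IsConstructible.isLocallyConstructible ?_
    exact (IsConstructible.biUnion (Set.toFinite _) fun S _ => IsConstructible.iInter fun n => by
      by_cases h : n ∈ S
      · rw [if_pos h]; exact hZ₁ n
      · rw [if_neg h]; exact (hZ₁ n).compl)
  · have hmem : w x ∈ R := hR.mem_toFinset.2 ⟨x, rfl⟩
    have hiff : ∀ n : R, (M₀.shift k₁.hom).g x ∈ Z₁ n ↔ w x = n.1 := fun n => by
      rw [← hZeq n.1 x, g_eq M₀ k₁, ← (pbCone D c i₀ M₀.p).w (v n)]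
      rfl
    show ∑ n : R, (if (M₀.shift k₁.hom).g x ∈ Z₁ n then n.1 else 0) = w x
    rw [Finset.sum_eq_single ⟨w x, hmem⟩ (fun n _ hn => if_neg fun h => hn (Subtype.ext ((hiff n).1 h).symm))
      (fun h => absurd (Finset.mem_univ _) h), if_pos ((hiff ⟨w x, hmem⟩).2 rfl)]

/-- A function at a stage is a weighting at a later stage if it is one at the limit. -/
theorem exists_stage_isWeighting (hc : IsLimit c) {X : Scheme.{u}} (f : X ⟶ c.pt) [LocallyQuasiFinite f]
    [LocallyOfFiniteType f] {i₁ : I} (M₁ : Model c f i₁) [LocallyQuasiFinite M₁.p] {w : X → ℤ}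
    (hw : MoreMor.IsWeighting f w) (w₁ : M₁.P → ℤ) (hlev : ∀ n, IsLocallyConstructible {z | w₁ z = n})
    (hw₁ : ∀ x, w₁ (M₁.g x) = w x) :
    ∃ (l : Over i₁), MoreMor.IsWeighting (M₁.shift l.hom).p (w₁ ∘ pullback.fst M₁.p (D.map l.hom)) := by
  classical
  choose j φ E hE hxE hgood using exists_stage_good hc f M₁ hw w₁ hlev hw₁
  haveI := M₁.compactSpace
  haveI := M₁.quasiSeparatedSpace
  let G := pbDiagram D i₁ M₁.p
  let cG := pbCone D c i₁ M₁.p
  have hcG := isLimitPbCone D i₁ M₁.p hc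
  let e := M₁.hpb.isoPullback
  haveI := H7Lim.compactSpace_pt_of_isAffineHom hcG (Over.mk (𝟙 i₁))
  haveI := H7Lim.quasiSeparatedSpace_pt hcG (Over.mk (𝟙 i₁))
  have hmem : ∀ x, cG.π.app (Over.mk (φ x)) (e.hom x) ∈ E x := fun x => by
    have := hxE x
    rwa [show (M₁.shift (φ x)).g = e.hom ≫ cG.π.app (Over.mk (φ x)) from g_eq M₁ (Over.mk (φ x))] at this
  obtain ⟨s, hs⟩ := @IsCompact.elim_finite_subcover cG.pt (constructibleTopology _) _ _
    (@CompactSpace.isCompact_univ _ (constructibleTopology _) (H28Top.compactSpace_constr _))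
    (fun x => cG.π.app (Over.mk (φ x)) ⁻¹' E x)
    (fun x => H28Top.isOpen_constr_of_isConstructible
      ((cG.π.app (Over.mk (φ x))).isConstructible_preimage (hE x)))
    (fun y _ => Set.mem_iUnion.mpr ⟨e.inv y, by
      have := hmem (e.inv y)
      rwa [show e.hom (e.inv y) = y from congrArg (fun m : cG.pt ⟶ cG.pt => m y) e.inv_hom_id] at this⟩)
  obtain ⟨k, hk⟩ := IsCofiltered.inf_objs_exists
    (insert (Over.mk (𝟙 i₁)) (s.image fun x => Over.mk (φ x)))
  have v : ∀ x : s, k ⟶ Over.mk (φ x.1) := fun x =>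
    (hk (Finset.mem_insert_of_mem (Finset.mem_image_of_mem (fun x => Over.mk (φ x)) x.2))).some
  let U : Set (G.obj k) := ⋃ x : s, G.map (v x) ⁻¹' E x.1
  have hU : IsConstructible U := IsConstructible.iUnion fun x =>
    (G.map (v x)).isConstructible_preimage (hE x.1)
  obtain ⟨l, θ, hl⟩ := (qcImage_of_isLocallyConstructible
    hU.compl.isLocallyConstructible).exists_preimage_eq_empty hcG (i := k) (by
    rw [Set.preimage_compl, Set.compl_empty_iff, Set.eq_univ_iff_forall]
    intro z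
    obtain ⟨x, hx, hz⟩ := Set.mem_iUnion₂.1 (hs (Set.mem_univ z))
    refine Set.mem_iUnion.mpr ⟨⟨x, hx⟩, ?_⟩
    show (cG.π.app k ≫ G.map (v ⟨x, hx⟩)) z ∈ E x
    rw [cG.w]
    exact hz)
  haveI : LocallyQuasiFinite (M₁.shift l.hom).p := MorphismProperty.pullback_snd _ _ ‹LocallyQuasiFinite M₁.p›
  refine ⟨l, isWeighting_of_good _ _ fun z => ?_⟩
  have hz : G.map θ z ∈ U := by
    by_contra hn
    exact (Set.eq_empty_iff_forall_notMem.1 hl z) hn
  obtain ⟨x, hx⟩ := Set.mem_iUnion.mp hz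
  have hz' : G.map (θ ≫ v x) z ∈ E x.1 := by
    rw [G.map_comp]
    exact hx
  have hgd := GoodPt.of_isPullback (isPullback_pbDiagram_map D i₁ M₁.p (θ ≫ v x))
    (w₁ ∘ pullback.fst M₁.p (D.map (φ x.1))) z (hgood x.1 _ hz')
  have efun : (w₁ ∘ pullback.fst M₁.p (D.map (φ x.1))) ∘ G.map (θ ≫ v x) =
      w₁ ∘ pullback.fst M₁.p (D.map l.hom) := funext fun y => by
    show w₁ ((G.map (θ ≫ v x) ≫ pullback.fst M₁.p (D.map (φ x.1))) y) = _
    rw [show G.map (θ ≫ v x) ≫ pullback.fst M₁.p (D.map (φ x.1)) = pullback.fst M₁.p (D.map l.hom) from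
      (pullback.lift_fst _ _ _).trans (Category.comp_id _)]
    rfl
  rwa [efun] at hgd

end Groth.Agent.H8Props.WeightDescend
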