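import Groth.Agent.H7Lim.FPDescent.Model

/-!
# Complements on models at a stage: fibre products and properties of morphisms of models
-/

set_option autoImplicit false
set_option linter.style.haveILetI false
set_option backward.isDefEq.respectTransparency false
set_option backward.defeqAttrib.useBackward true

universe u

open CategoryTheory Limits AlgebraicGeometry

namespace Groth.Agent.H8Props.WeightDescend

open H7Lim H7Lim.FPDescent

variable {I : Type u} [Category.{u} I] {D : I ⥤ Scheme.{u}} {c : Cone D}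
variable {U V T : Scheme.{u}} {h : U ⟶ c.pt} {h' : V ⟶ c.pt} {h'' : T ⟶ c.pt} {i : I}

/-- Composition of morphisms of models. -/
noncomputable def Hom.comp {M : Model c h i} {N : Model c h' i} {L : Model c h'' i} {w : U ⟶ V}
    {w' : V ⟶ T} (F : Hom M N w) (G : Hom N L w') : Hom M L (w ≫ w') where
  o := F.o ≫ G.o
  w_p := by rw [Category.assoc, G.w_p, F.w_p]
  w_g := by rw [reassoc_of% F.w_g, G.w_g, Category.assoc]

/-- The fibre product of two models. -/
noncomputable def prod (M : Model c h i) (N : Model c h' i) :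
    Model c (pullback.fst h h' ≫ h) i where
  P := pullback M.p N.p
  p := pullback.fst M.p N.p ≫ M.p
  lfp := inferInstance
  qc := inferInstance
  qs := inferInstance
  g := pullback.map _ _ _ _ M.g N.g (c.π.app i) M.hpb.w.symm N.hpb.w.symm
  hpb := by
    have h1 : IsPullback (pullback.snd h h' ≫ N.g) (pullback.fst h h') N.p (h ≫ c.π.app i) :=
      (IsPullback.of_hasPullback h h').flip.paste_horiz N.hpb
    have h2 : IsPullback (pullback.map _ _ _ _ M.g N.g (c.π.app i) M.hpb.w.symm N.hpb.w.symm)
        (pullback.fst h h') (pullback.fst M.p N.p) M.g := by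
      refine IsPullback.of_right ?_ (pullback.lift_fst _ _ _) (IsPullback.of_hasPullback M.p N.p).flip
      rw [pullback.lift_snd]
      exact M.hpb.w ▸ h1
    exact h2.paste_vert M.hpb

/-- The first projection of the fibre product. -/
noncomputable def prodFst (M : Model c h i) (N : Model c h' i) :
    Hom (prod M N) M (pullback.fst h h') :=
  ⟨pullback.fst M.p N.p, rfl, pullback.lift_fst _ _ _⟩

/-- The second projection of the fibre product. -/
noncomputable def prodSnd (M : Model c h i) (N : Model c h' i) :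
    Hom (prod M N) N (pullback.snd h h') :=
  ⟨pullback.snd M.p N.p, pullback.condition.symm, pullback.lift_snd _ _ _⟩

theorem locallyOfFinitePresentation_hom {M : Model c h i} {N : Model c h' i} {w : U ⟶ V}
    (F : Hom M N w) : LocallyOfFinitePresentation F.o :=
  haveI : LocallyOfFinitePresentation (F.o ≫ N.p) := F.w_p.symm ▸ M.lfp
  locallyOfFinitePresentation_of_comp F.o N.p

theorem isPullback_g {M : Model c h i} {N : Model c h' i} {w : U ⟶ V} (F : Hom M N w)
    (hw : w ≫ h' = h) : IsPullback M.g w F.o N.g :=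
  IsPullback.of_bot (by rw [F.w_p, hw]; exact M.hpb) F.w_g N.hpb

theorem isPullback_shift {j : I} {M : Model c h i} {N : Model c h' i} {w : U ⟶ V} (F : Hom M N w)
    (φ : j ⟶ i) (hw : w ≫ h' = h) :
    IsPullback (pullback.fst M.p (D.map φ)) (F.shift φ hw).o F.o (pullback.fst N.p (D.map φ)) := by
  refine IsPullback.of_bot ?_ (by simp [Hom.shift]) (IsPullback.of_hasPullback N.p (D.map φ))
  rw [show (F.shift φ hw).o ≫ pullback.snd N.p (D.map φ) = pullback.snd M.p (D.map φ) by simp [Hom.shift],
    F.w_p]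
  exact IsPullback.of_hasPullback M.p (D.map φ)

theorem prop_shift {P : MorphismProperty Scheme.{u}} [P.IsStableUnderBaseChange] {j : I}
    {M : Model c h i} {N : Model c h' i} {w : U ⟶ V} (F : Hom M N w) (φ : j ⟶ i) (hw : w ≫ h' = h)
    (hP : P F.o) : P (F.shift φ hw).o :=
  MorphismProperty.of_isPullback (isPullback_shift F φ hw) hP

theorem mono_pair_shift {j : I} {M : Model c h i} {N : Model c h' i} {L : Model c h'' i} {w : U ⟶ V}
    {w' : U ⟶ T} (F : Hom M N w) (G : Hom M L w') (φ : j ⟶ i) (hw : w ≫ h' = h) (hw' : w' ≫ h'' = h)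
    (hmono : ∀ {Z : Scheme.{u}} (p q : Z ⟶ M.P), p ≫ F.o = q ≫ F.o → p ≫ G.o = q ≫ G.o → p = q)
    {Z : Scheme.{u}} (p q : Z ⟶ (M.shift φ).P) (h1 : p ≫ (F.shift φ hw).o = q ≫ (F.shift φ hw).o)
    (h2 : p ≫ (G.shift φ hw').o = q ≫ (G.shift φ hw').o) : p = q := by
  refine (isPullback_shift F φ hw).hom_ext (hmono _ _ ?_ ?_) h1
  · simp only [Category.assoc, (isPullback_shift F φ hw).w]
    rw [reassoc_of% h1]
  · simp only [Category.assoc, (isPullback_shift G φ hw').w]
    rw [reassoc_of% h2]

variable [IsCofiltered I] [∀ (i j : I) (f : i ⟶ j), IsAffineHom (D.map f)]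
  [∀ i, CompactSpace (D.obj i)] [∀ i, QuasiSeparatedSpace (D.obj i)]

omit [∀ i, QuasiSeparatedSpace (D.obj i)] in
/-- A descendable property of a morphism upstairs holds for the models at a later stage. -/
theorem exists_shift_prop {P Q : MorphismProperty Scheme.{u}} [IsZariskiLocalAtTarget P]
    [P.IsStableUnderBaseChange] [Q.IsStableUnderBaseChange] (hP : DescendsAffine P Q)
    (hc : IsLimit c) {M : Model c h i} {N : Model c h' i} {w : U ⟶ V} (F : Hom M N w)
    (hw : w ≫ h' = h) (hQ : Q F.o) (hPw : P w) :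
    ∃ (j : I) (φ : j ⟶ i), P (F.shift φ hw).o := by
  haveI := N.compactSpace
  haveI : QuasiCompact (F.o ≫ N.p) := F.w_p.symm ▸ M.qc
  haveI : QuasiSeparated (F.o ≫ N.p) := F.w_p.symm ▸ M.qs
  haveI : QuasiCompact F.o := .of_comp F.o N.p
  haveI : QuasiSeparated F.o := .of_comp F.o N.p
  obtain ⟨j, φ, Xj, Yj, fj, gj, pY, pX, h1, h2, h3⟩ :=
    (exists_descend_square_iff hc hP i F.o N.p N.hpb (isPullback_g F hw) hQ).1 hPw
  refine ⟨j, φ, ?_⟩
  have hsq := isPullback_shift F φ hw
  let eY := h1.isoPullback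
  have h2' : IsPullback pX (fj ≫ eY.hom) F.o (pullback.fst N.p (D.map φ)) :=
    h2.of_iso (Iso.refl _) (Iso.refl _) eY (Iso.refl _) (by simp) (by simp) (by simp)
      (by simp [eY])
  have h5 : (F.shift φ hw).o = (hsq.isoIsPullback _ _ h2').hom ≫ fj ≫ eY.hom :=
    (hsq.isoIsPullback_hom_snd _ _ h2').symm
  rw [h5]
  exact (P.cancel_left_of_respectsIso _ _).2 ((P.cancel_right_of_respectsIso _ _).2 h3)

end Groth.Agent.H8Props.WeightDescend
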