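import Groth.Agent.H8Props.WeightDescend.Good
import Groth.Agent.H8Props.WeightDescend.Models
import Groth.Agent.H7Weight.IntegralLevels
import Groth.Agent.H7Lim.FPDescent.Exists
import Groth.Agent.H7Lim.DescendAffine
import Groth.Agent.H06EGA8.DescendSmooth

/-!
# Near a point of the limit, a stage has a good constructible set
-/

set_option autoImplicit false
set_option linter.style.haveILetI false
set_option backward.isDefEq.respectTransparency false
set_option backward.defeqAttrib.useBackward true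

universe u

open CategoryTheory Limits AlgebraicGeometry Topology

namespace Groth.Agent.H8Props.WeightDescend

open H7Weight H7Lim H7Lim.FPDescent

/-- A single-point chart with affine base and constant sum through a given point. -/
theorem exists_affine_chart {X Y : Scheme.{u}} (f : X ⟶ Y) [LocallyQuasiFinite f] [LocallyOfFiniteType f]
    {w : X → ℤ} (hw : MoreMor.IsWeighting f w) (x : X) :
    ∃ (V : Scheme.{u}) (g : V ⟶ Y) (_ : Etale g) (_ : IsAffine V) (C : Chart f g) (Ω : Type u) (_ : Field Ω)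
      (_ : IsAlgClosed Ω) (η : Spec (CommRingCat.of Ω) ⟶ V) (u : C.U),
      Subsingleton (Pts C.π η) ∧ C.a u = x ∧ C.π u = pt η ∧
        ∀ (Ω' : Type u) [Field Ω'] [IsAlgClosed Ω'] (η' : Spec (CommRingCat.of Ω') ⟶ V),
          geomSum C.π (w ∘ C.a) η' = w x := by
  obtain ⟨Ω, _, _, η, hη⟩ := exists_geomPt' (f x)
  obtain ⟨s, rfl⟩ := exists_pts f η x hη.symm
  obtain ⟨V, g, _, η', hη', ⟨D⟩⟩ := exists_single f η s
  obtain ⟨V₀, hV₀, hconst⟩ := D.C.exists_nhds_const hw η'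
  obtain ⟨_, ⟨(W : V.Opens), (hW : IsAffineOpen W), rfl⟩, hvW, hWsub⟩ :=
    V.isBasis_affineOpens.exists_subset_of_mem_open hV₀ V₀.2
  obtain ⟨η₁, hη₁⟩ : ∃ η₁ : Spec (CommRingCat.of Ω) ⟶ W, η₁ ≫ W.ι = η' := by
    refine ⟨IsOpenImmersion.lift W.ι η' ?_, IsOpenImmersion.lift_fac _ _ _⟩
    rintro _ ⟨z, rfl⟩
    rw [Subsingleton.elim z (IsLocalRing.closedPoint Ω), Scheme.Opens.range_ι]
    exact hvW
  let D₁ := D.baseChange W.ι hη₁
  refine ⟨W.toScheme, W.ι ≫ g, inferInstance, hW, D₁.C, Ω, inferInstance, inferInstance, η₁, pt D₁.p.1,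
    ⟨fun a b => (D₁.unique a).trans (D₁.unique b).symm⟩, ?_, ?_, fun Ω' _ _ η'' => ?_⟩
  · exact congr(pt $(D₁.p_a))
  · rw [← pt_comp, D₁.p.2]
  · exact (Chart.geomSum_baseChange D.C W.ι w η'').trans
      ((hconst Ω' _ (hWsub (pt η'').2)).trans (geomSum_single D w))

variable {I : Type u} [Category.{u} I] [IsCofiltered I] {D : I ⥤ Scheme.{u}} {c : Cone D}
  [∀ i, IsAffine (D.obj i)]

theorem exists_stage_good (hc : IsLimit c) {X : Scheme.{u}} (f : X ⟶ c.pt) [LocallyQuasiFinite f]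
    [LocallyOfFiniteType f] {i₁ : I} (M₁ : Model c f i₁) {w : X → ℤ} (hw : MoreMor.IsWeighting f w)
    (w₁ : M₁.P → ℤ) (hlev : ∀ n, IsLocallyConstructible {z | w₁ z = n})
    (hw₁ : ∀ x, w₁ (M₁.g x) = w x) (x : X) :
    ∃ (j : I) (φ : j ⟶ i₁) (E : Set (M₁.shift φ).P), IsConstructible E ∧ (M₁.shift φ).g x ∈ E ∧
      ∀ z ∈ E, GoodPt (M₁.shift φ).p (w₁ ∘ pullback.fst M₁.p (D.map φ)) z := by
  obtain ⟨V, g, _, _, C, Ω, _, _, η, u, hsub, hu, hπu, hconst⟩ := exists_affine_chart f hw x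
  haveI := isAffineHom_π_app D c hc i₁
  haveI : IsAffine (((Functor.const I).obj c.pt).obj i₁) := isAffine_of_isAffineHom (c.π.app i₁)
  haveI : IsAffine c.pt := ‹IsAffine (((Functor.const I).obj c.pt).obj i₁)›
  -- the base of the chart at a stage
  obtain ⟨i₂, ⟨N₀⟩⟩ := FPDescent.exists_model hc g
  haveI := N₀.compactSpace
  haveI := N₀.quasiSeparatedSpace
  obtain ⟨i₃, φ₂, hN₁⟩ := exists_descend hc descendsAffine_isAffineHom i₂ N₀.p trivial
    (by
      rw [← N₀.hpb.isoPullback_inv_snd]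
      exact (inferInstance : IsAffineHom (N₀.hpb.isoPullback.inv ≫ g)))
  let N₁ := N₀.shift φ₂
  haveI : IsAffineHom N₁.p := hN₁
  haveI := N₁.compactSpace
  haveI := N₁.quasiSeparatedSpace
  obtain ⟨i₄, φ₃, hN₂⟩ := exists_descend hc H06EGA8.descendsAffine_etale i₃ N₁.p N₁.lfp
    (by
      rw [← N₁.hpb.isoPullback_inv_snd]
      exact (inferInstance : Etale (N₁.hpb.isoPullback.inv ≫ g)))
  let N₂ := N₁.shift φ₃
  haveI : Etale N₂.p := hN₂
  haveI : IsAffineHom N₂.p := MorphismProperty.pullback_snd _ _ ‹IsAffineHom N₁.p›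
  obtain ⟨j, α, β, -⟩ := IsCofilteredOrEmpty.cone_objs i₁ i₄
  -- the chart as an open of the fibre product
  let MX := M₁.shift α
  let NV := N₂.shift β
  haveI : Etale NV.p := MorphismProperty.pullback_snd _ _ ‹Etale N₂.p›
  haveI : IsAffineHom NV.p := MorphismProperty.pullback_snd _ _ ‹IsAffineHom N₂.p›
  let MP := prod MX NV
  haveI : CompactSpace C.U := QuasiCompact.compactSpace_of_compactSpace C.π
  have hwL : C.lift ≫ pullback.fst f g ≫ f = C.π ≫ g := by rw [Chart.lift_fst_assoc, C.w]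
  obtain ⟨k, ρ, N, F, hF⟩ := FPDescent.exists_open hc MP C.lift hwL
  let A₀ := Hom.comp F ((prodFst MX NV).shift ρ rfl)
  let B₀ := Hom.comp F ((prodSnd MX NV).shift ρ pullback.condition.symm)
  let A : FPDescent.Hom N (MX.shift ρ) C.a := ⟨A₀.o, A₀.w_p, by rw [A₀.w_g, Chart.lift_fst]⟩
  let B : FPDescent.Hom N (NV.shift ρ) C.π := ⟨B₀.o, B₀.w_p, by rw [B₀.w_g, Chart.lift_snd]⟩
  have hA : Etale A.o := by
    have : Etale ((prodFst MX NV).shift ρ rfl).o := prop_shift (P := @Etale) (prodFst MX NV) ρ rfl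
      (MorphismProperty.pullback_fst MX.p NV.p ‹Etale NV.p›)
    exact MorphismProperty.comp_mem @Etale F.o _ inferInstance this
  have hmono : ∀ {Z : Scheme.{u}} (p q : Z ⟶ N.P), p ≫ A.o = q ≫ A.o → p ≫ B.o = q ≫ B.o → p = q := by
    intro Z p q h1 h2
    rw [← cancel_mono F.o]
    refine mono_pair_shift (prodFst MX NV) (prodSnd MX NV) ρ rfl pullback.condition.symm
      (fun p q h1 h2 => pullback.hom_ext h1 h2) _ _ ?_ ?_
    · exact (Category.assoc _ _ _).trans (h1.trans (Category.assoc _ _ _).symm)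
    · exact (Category.assoc _ _ _).trans (h2.trans (Category.assoc _ _ _).symm)
  -- finiteness
  obtain ⟨l, σ, hfin⟩ := exists_shift_prop descendsAffine_isFinite hc B rfl
    (haveI := locallyOfFinitePresentation_hom B; inferInstance) C.finite
  let MX₄ := (MX.shift ρ).shift σ
  let NV₄ := (NV.shift ρ).shift σ
  let A₄ := A.shift σ C.w
  let B₄ := B.shift σ rfl
  haveI : IsFinite B₄.o := hfin
  haveI : Etale A₄.o := prop_shift (P := @Etale) A σ C.w hA
  haveI : IsAffineHom NV₄.p :=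
    MorphismProperty.pullback_snd _ _ (MorphismProperty.pullback_snd _ _ ‹IsAffineHom NV.p›)
  haveI : Etale NV₄.p := MorphismProperty.pullback_snd _ _ (MorphismProperty.pullback_snd _ _ ‹Etale NV.p›)
  -- the function at that stage
  let t : MX₄.P ⟶ M₁.P := pullback.fst _ _ ≫ pullback.fst _ _ ≫ pullback.fst M₁.p (D.map α)
  have ht : IsPullback t MX₄.p M₁.p (D.map (σ ≫ ρ ≫ α)) := by
    rw [D.map_comp, D.map_comp]
    exact (IsPullback.of_hasPullback (MX.shift ρ).p (D.map σ)).paste_horiz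
      ((IsPullback.of_hasPullback MX.p (D.map ρ)).paste_horiz (IsPullback.of_hasPullback M₁.p (D.map α)))
  have htg : MX₄.g ≫ t = M₁.g := by simp [MX₄, MX, t, Model.shift]
  let w₄ : MX₄.P → ℤ := w₁ ∘ t
  haveI := locallyOfFinitePresentation_hom B₄
  have hlev₄ : ∀ n, IsLocallyConstructible {z | (w₄ ∘ A₄.o) z = n} := fun n =>
    isLocallyConstructible_preimage (hlev n) (A₄.o ≫ t)
  let bad : Set NV₄.P := {v | MoreMor.fibreIntegral B₄.o (w₄ ∘ A₄.o) v = w x}ᶜ
  have hbad : IsLocallyConstructible bad :=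
    isLocallyConstructible_compl (isLocallyConstructible_fibreIntegral_of_levels hlev₄ (w x))
  have hbad0 : ∀ v, NV₄.g v ∉ bad := fun v hv => hv (by
    show MoreMor.fibreIntegral B₄.o (w₄ ∘ A₄.o) (NV₄.g v) = w x
    rw [← fibreIntegral_baseChange (isPullback_g B₄ rfl) _ v (B₄.o.finite_preimage_singleton _)]
    have e : (w₄ ∘ A₄.o) ∘ (N.shift σ).g = w ∘ C.a := funext fun u => by
      show w₁ (t (((N.shift σ).g ≫ A₄.o) u)) = w (C.a u)
      rw [A₄.w_g, ← hw₁, ← htg]
      rfl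
    rw [e]
    obtain ⟨Ω', _, _, η', rfl⟩ := exists_geomPt' v
    rw [Chart.fibreIntegral_eq, hconst])
  haveI := NV₄.compactSpace
  haveI := NV₄.quasiSeparatedSpace
  let k₀ : Over l := Over.mk (𝟙 l)
  obtain ⟨k', θ, hθ⟩ := QCImage.exists_preimage_eq_empty (isLimitPbCone D l NV₄.p hc)
    (qcImage_of_isLocallyConstructible (X := (pbDiagram D l NV₄.p).obj k₀)
      (isLocallyConstructible_preimage hbad (pullback.fst NV₄.p (D.map k₀.hom)))) (by
    rw [Set.eq_empty_iff_forall_notMem]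
    intro z hz
    refine hbad0 (NV₄.hpb.isoPullback.inv z) ?_
    have e : (pbCone D c l NV₄.p).π.app k₀ ≫ pullback.fst NV₄.p (D.map k₀.hom) =
        NV₄.hpb.isoPullback.inv ≫ NV₄.g := by
      rw [IsPullback.isoPullback_inv_fst]
      exact (pullback.lift_fst _ _ _).trans (Category.comp_id _)
    rw [← Scheme.Hom.comp_apply, ← e]
    exact hz)
  -- the final stage
  let τ : k'.left ⟶ l := k'.hom
  let MX₅ := MX₄.shift τ
  let NV₅ := NV₄.shift τ
  let A₅ := A₄.shift τ C.w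
  let B₅ := B₄.shift τ rfl
  have hgood : ∀ v : NV₅.P, pullback.fst NV₄.p (D.map τ) v ∉ bad := by
    intro v hv
    refine Set.eq_empty_iff_forall_notMem.1 hθ v ?_
    show ((pbDiagram D l NV₄.p).map θ ≫ pullback.fst NV₄.p (D.map k₀.hom)) v ∈ bad
    rw [show (pbDiagram D l NV₄.p).map θ ≫ pullback.fst NV₄.p (D.map k₀.hom) =
      pullback.fst NV₄.p (D.map τ) from (pullback.lift_fst _ _ _).trans (Category.comp_id _)]
    exact hv
  haveI : IsFinite B₅.o := prop_shift (P := @IsFinite) B₄ τ rfl hfin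
  haveI : Etale A₅.o := prop_shift (P := @Etale) A₄ τ C.w ‹Etale A₄.o›
  haveI : IsAffineHom NV₅.p := MorphismProperty.pullback_snd _ _ ‹IsAffineHom NV₄.p›
  haveI : Etale NV₅.p := MorphismProperty.pullback_snd _ _ ‹Etale NV₄.p›
  haveI : IsAffine NV₅.P := isAffine_of_isAffineHom NV₅.p
  let C₅ : Chart MX₅.p NV₅.p := Chart.mk' _ A₅.o B₅.o inferInstance (A₅.w_p.trans B₅.w_p.symm)
    fun p q h1 h2 => mono_pair_shift A₄ B₄ τ C.w rfl
      (fun p q h1 h2 => mono_pair_shift A B σ C.w rfl hmono p q h1 h2) p q h1 h2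
  let w₅ : MX₅.P → ℤ := w₄ ∘ pullback.fst MX₄.p (D.map τ)
  have hn : ∀ (Ω' : Type u) [Field Ω'] [IsAlgClosed Ω'] (η' : Spec (CommRingCat.of Ω') ⟶ NV₅.P),
      geomSum C₅.π (w₅ ∘ C₅.a) η' = w x := by
    intro Ω' _ _ η'
    rw [← C₅.fibreIntegral_eq]
    have e : w₅ ∘ C₅.a = (w₄ ∘ A₄.o) ∘ pullback.fst (N.shift σ).p (D.map τ) := funext fun z =>
      (congrArg (fun m : _ ⟶ MX₄.P => w₄ (m z)) (isPullback_shift A₄ τ C.w).w).symm
    rw [e]
    exact (fibreIntegral_baseChange (isPullback_shift B₄ τ rfl) _ (pt η')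
      (B₄.o.finite_preimage_singleton _)).trans (not_not.1 (hgood (pt η')))
  have hsub₅ : Subsingleton (Pts C₅.π (η ≫ NV₅.g)) :=
    (ptsBaseChange (isPullback_g B₅ rfl) η).symm.subsingleton
  obtain ⟨Z, hZ, hηZ, hZsub⟩ := exists_constructible_radicial C₅.π (η ≫ NV₅.g) hsub₅
  haveI : CompactSpace C₅.U := ((N.shift σ).shift τ).compactSpace
  haveI : CompactSpace MX₅.P := MX₅.compactSpace
  haveI : QuasiSeparatedSpace MX₅.P := Model.quasiSeparatedSpace _
  haveI : QuasiCompact C₅.a := quasiCompact_of_compactSpace _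
  have hE : IsConstructible (C₅.a '' (C₅.π ⁻¹' Z)) :=
    C₅.a.isConstructible_image (C₅.π.isConstructible_preimage hZ)
  have hxE : MX₅.g x ∈ C₅.a '' (C₅.π ⁻¹' Z) := by
    refine ⟨((N.shift σ).shift τ).g u, ?_, ?_⟩
    · show (((N.shift σ).shift τ).g ≫ B₅.o) u ∈ Z
      rw [B₅.w_g]
      show NV₅.g (C.π u) ∈ Z
      rw [hπu, ← pt_comp]
      exact hηZ
    · show (((N.shift σ).shift τ).g ≫ A₅.o) u = MX₅.g x
      rw [A₅.w_g, ← hu]
      rfl
  -- back to the canonical model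
  let φ : k'.left ⟶ i₁ := τ ≫ σ ≫ ρ ≫ α
  have h5 : IsPullback (pullback.fst MX₄.p (D.map τ) ≫ t) MX₅.p M₁.p (D.map φ) := by
    rw [D.map_comp]
    exact (IsPullback.of_hasPullback MX₄.p (D.map τ)).paste_horiz ht
  let b := h5.isoPullback
  refine ⟨k'.left, φ, b.inv ⁻¹' (C₅.a '' (C₅.π ⁻¹' Z)), b.inv.isConstructible_preimage hE, ?_, ?_⟩
  · show ((M₁.shift φ).g ≫ b.inv) x ∈ C₅.a '' (C₅.π ⁻¹' Z)
    have : (M₁.shift φ).g ≫ b.inv = MX₅.g := by
      rw [← cancel_mono b.hom, Category.assoc, b.inv_hom_id]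
      refine (Category.comp_id _).trans ?_
      apply pullback.hom_ext
      · simp only [Category.assoc, b, IsPullback.isoPullback_hom_fst]
        rw [show (M₁.shift φ).g ≫ pullback.fst _ _ = M₁.g from pullback.lift_fst _ _ _,
          show MX₅.g ≫ pullback.fst MX₄.p (D.map τ) ≫ t = M₁.g from by
            rw [← Category.assoc, show MX₅.g ≫ pullback.fst MX₄.p (D.map τ) = MX₄.g from
              pullback.lift_fst _ _ _, htg]]
      · simp only [Category.assoc, b, IsPullback.isoPullback_hom_snd]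
        exact (pullback.lift_snd _ _ _).trans (pullback.lift_snd _ _ _).symm
    rw [this]
    exact hxE
  · rintro z ⟨z', hz', hzz'⟩
    have hgd : GoodPt MX₅.p w₅ (b.inv z) :=
      hzz' ▸ goodPt_of_chart C₅ Z w₅ hZsub (w x) hn z' hz'
    have := hgd.of_isPullback (f' := (M₁.shift φ).p) (g₀ := 𝟙 _)
      (IsPullback.of_horiz_isIso ⟨by rw [Category.comp_id]; exact h5.isoPullback_inv_snd⟩) w₅ z
    convert this using 1
    funext y
    show w₁ (pullback.fst M₁.p (D.map φ) y) = w₁ ((b.inv ≫ pullback.fst MX₄.p (D.map τ) ≫ t) y)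
    rw [show b.inv ≫ pullback.fst MX₄.p (D.map τ) ≫ t = pullback.fst M₁.p (D.map φ) from
      h5.isoPullback_inv_fst]

end Groth.Agent.H8Props.WeightDescend
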